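import Mathlib
import Cfsg.Agent.Lib.Helper21.U3.Defs

set_option autoImplicit false

/-! Project U3ODD (S2786, coordinator helper21), package Q3: an explicit triple of unitary
transvections of `SU₃(3)` whose product has order `7`. -/

namespace Cfsg.Agent.Lib.Helper85.U3

open Matrix Cfsg.Agent.Lib.Helper21.U3

universe u

theorem q3_m12 {F : Type u} [Field F] (i : F) (hi : i * i = -1) (h3 : (3 : F) = 0) :
    (!![(1 + i), i, i; i, (1 + i), i; i, i, (1 + i)] : Matrix (Fin 3) (Fin 3) F) * !![(1 + i), i, (-i); i, (1 + i), (-i); (-i), (-i), (1 + i)] = !![(-i), (-1 - i), 1; (-1 - i), (-i), 1; (-1), (-1), (-1 - i)] := by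
  have e00 : (1 + i) * (1 + i) + i * i + i * (-i) = (-i) := by
    linear_combination (1 : F) * hi + ((0 : F) + (1 : F) * i) * h3
  have e01 : (1 + i) * i + i * (1 + i) + i * (-i) = (-1 - i) := by
    linear_combination (1 : F) * hi + ((0 : F) + (1 : F) * i) * h3
  have e02 : (1 + i) * (-i) + i * (-i) + i * (1 + i) = 1 := by
    linear_combination (-1 : F) * hi + ((0 : F) + (0 : F) * i) * h3
  have e10 : i * (1 + i) + (1 + i) * i + i * (-i) = (-1 - i) := by
    linear_combination (1 : F) * hi + ((0 : F) + (1 : F) * i) * h3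
  have e11 : i * i + (1 + i) * (1 + i) + i * (-i) = (-i) := by
    linear_combination (1 : F) * hi + ((0 : F) + (1 : F) * i) * h3
  have e12 : i * (-i) + (1 + i) * (-i) + i * (1 + i) = 1 := by
    linear_combination (-1 : F) * hi + ((0 : F) + (0 : F) * i) * h3
  have e20 : i * (1 + i) + i * i + (1 + i) * (-i) = (-1) := by
    linear_combination (1 : F) * hi + ((0 : F) + (0 : F) * i) * h3
  have e21 : i * i + i * (1 + i) + (1 + i) * (-i) = (-1) := by
    linear_combination (1 : F) * hi + ((0 : F) + (0 : F) * i) * h3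
  have e22 : i * (-i) + i * (-i) + (1 + i) * (1 + i) = (-1 - i) := by
    linear_combination (-1 : F) * hi + ((1 : F) + (1 : F) * i) * h3
  rw [Matrix.mul_fin_three]
  simp only [e00, e01, e02, e10, e11, e12, e20, e21, e22]

theorem q3_c {F : Type u} [Field F] (i : F) (hi : i * i = -1) (h3 : (3 : F) = 0) :
    (!![(-i), (-1 - i), 1; (-1 - i), (-i), 1; (-1), (-1), (-1 - i)] : Matrix (Fin 3) (Fin 3) F) * !![(1 - i), i, (-i); i, (1 - i), i; (-i), i, (1 - i)] = !![0, (-1 + i), (1 + i); (-1 - i), (-i), 1; (1 + i), (-i), 1] := by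
  have e00 : (-i) * (1 - i) + (-1 - i) * i + 1 * (-i) = 0 := by
    linear_combination (0 : F) * hi + ((0 : F) + (-1 : F) * i) * h3
  have e01 : (-i) * i + (-1 - i) * (1 - i) + 1 * i = (-1 + i) := by
    linear_combination (0 : F) * hi + ((0 : F) + (0 : F) * i) * h3
  have e02 : (-i) * (-i) + (-1 - i) * i + 1 * (1 - i) = (1 + i) := by
    linear_combination (0 : F) * hi + ((0 : F) + (-1 : F) * i) * h3
  have e10 : (-1 - i) * (1 - i) + (-i) * i + 1 * (-i) = (-1 - i) := by
    linear_combination (0 : F) * hi + ((0 : F) + (0 : F) * i) * h3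
  have e11 : (-1 - i) * i + (-i) * (1 - i) + 1 * i = (-i) := by
    linear_combination (0 : F) * hi + ((0 : F) + (0 : F) * i) * h3
  have e12 : (-1 - i) * (-i) + (-i) * i + 1 * (1 - i) = 1 := by
    linear_combination (0 : F) * hi + ((0 : F) + (0 : F) * i) * h3
  have e20 : (-1) * (1 - i) + (-1) * i + (-1 - i) * (-i) = (1 + i) := by
    linear_combination (1 : F) * hi + ((-1 : F) + (0 : F) * i) * h3
  have e21 : (-1) * i + (-1) * (1 - i) + (-1 - i) * i = (-i) := by
    linear_combination (-1 : F) * hi + ((0 : F) + (0 : F) * i) * h3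
  have e22 : (-1) * (-i) + (-1) * i + (-1 - i) * (1 - i) = 1 := by
    linear_combination (1 : F) * hi + ((-1 : F) + (0 : F) * i) * h3
  rw [Matrix.mul_fin_three]
  simp only [e00, e01, e02, e10, e11, e12, e20, e21, e22]

theorem q3_c2 {F : Type u} [Field F] (i : F) (hi : i * i = -1) (h3 : (3 : F) = 0) :
    (!![0, (-1 + i), (1 + i); (-1 - i), (-i), 1; (1 + i), (-i), 1] : Matrix (Fin 3) (Fin 3) F) * !![0, (-1 + i), (1 + i); (-1 - i), (-i), 1; (1 + i), (-i), 1] = !![(-1 - i), (-1), (-i); (-i), (1 - i), 1; (-i), (-i), (1 + i)] := by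
  have e00 : 0 * 0 + (-1 + i) * (-1 - i) + (1 + i) * (1 + i) = (-1 - i) := by
    linear_combination (0 : F) * hi + ((1 : F) + (1 : F) * i) * h3
  have e01 : 0 * (-1 + i) + (-1 + i) * (-i) + (1 + i) * (-i) = (-1) := by
    linear_combination (-2 : F) * hi + ((1 : F) + (0 : F) * i) * h3
  have e02 : 0 * (1 + i) + (-1 + i) * 1 + (1 + i) * 1 = (-i) := by
    linear_combination (0 : F) * hi + ((0 : F) + (1 : F) * i) * h3
  have e10 : (-1 - i) * 0 + (-i) * (-1 - i) + 1 * (1 + i) = (-i) := by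
    linear_combination (1 : F) * hi + ((0 : F) + (1 : F) * i) * h3
  have e11 : (-1 - i) * (-1 + i) + (-i) * (-i) + 1 * (-i) = (1 - i) := by
    linear_combination (0 : F) * hi + ((0 : F) + (0 : F) * i) * h3
  have e12 : (-1 - i) * (1 + i) + (-i) * 1 + 1 * 1 = 1 := by
    linear_combination (-1 : F) * hi + ((0 : F) + (-1 : F) * i) * h3
  have e20 : (1 + i) * 0 + (-i) * (-1 - i) + 1 * (1 + i) = (-i) := by
    linear_combination (1 : F) * hi + ((0 : F) + (1 : F) * i) * h3
  have e21 : (1 + i) * (-1 + i) + (-i) * (-i) + 1 * (-i) = (-i) := by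
    linear_combination (2 : F) * hi + ((-1 : F) + (0 : F) * i) * h3
  have e22 : (1 + i) * (1 + i) + (-i) * 1 + 1 * 1 = (1 + i) := by
    linear_combination (1 : F) * hi + ((0 : F) + (0 : F) * i) * h3
  rw [Matrix.mul_fin_three]
  simp only [e00, e01, e02, e10, e11, e12, e20, e21, e22]

theorem q3_c4 {F : Type u} [Field F] (i : F) (hi : i * i = -1) (h3 : (3 : F) = 0) :
    (!![(-1 - i), (-1), (-i); (-i), (1 - i), 1; (-i), (-i), (1 + i)] : Matrix (Fin 3) (Fin 3) F) * !![(-1 - i), (-1), (-i); (-i), (1 - i), 1; (-i), (-i), (1 + i)] = !![(-1), (-1 - i), (-1); (1 - i), i, 1; (-1), (-i), (-1 + i)] := by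
  have e00 : (-1 - i) * (-1 - i) + (-1) * (-i) + (-i) * (-i) = (-1) := by
    linear_combination (2 : F) * hi + ((0 : F) + (1 : F) * i) * h3
  have e01 : (-1 - i) * (-1) + (-1) * (1 - i) + (-i) * (-i) = (-1 - i) := by
    linear_combination (1 : F) * hi + ((0 : F) + (1 : F) * i) * h3
  have e02 : (-1 - i) * (-i) + (-1) * 1 + (-i) * (1 + i) = (-1) := by
    linear_combination (0 : F) * hi + ((0 : F) + (0 : F) * i) * h3
  have e10 : (-i) * (-1 - i) + (1 - i) * (-i) + 1 * (-i) = (1 - i) := by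
    linear_combination (2 : F) * hi + ((-1 : F) + (0 : F) * i) * h3
  have e11 : (-i) * (-1) + (1 - i) * (1 - i) + 1 * (-i) = i := by
    linear_combination (1 : F) * hi + ((0 : F) + (-1 : F) * i) * h3
  have e12 : (-i) * (-i) + (1 - i) * 1 + 1 * (1 + i) = 1 := by
    linear_combination (1 : F) * hi + ((0 : F) + (0 : F) * i) * h3
  have e20 : (-i) * (-1 - i) + (-i) * (-i) + (1 + i) * (-i) = (-1) := by
    linear_combination (1 : F) * hi + ((0 : F) + (0 : F) * i) * h3
  have e21 : (-i) * (-1) + (-i) * (1 - i) + (1 + i) * (-i) = (-i) := by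
    linear_combination (0 : F) * hi + ((0 : F) + (0 : F) * i) * h3
  have e22 : (-i) * (-i) + (-i) * 1 + (1 + i) * (1 + i) = (-1 + i) := by
    linear_combination (2 : F) * hi + ((0 : F) + (0 : F) * i) * h3
  rw [Matrix.mul_fin_three]
  simp only [e00, e01, e02, e10, e11, e12, e20, e21, e22]

theorem q3_c6 {F : Type u} [Field F] (i : F) (hi : i * i = -1) (h3 : (3 : F) = 0) :
    (!![(-1), (-1 - i), (-1); (1 - i), i, 1; (-1), (-i), (-1 + i)] : Matrix (Fin 3) (Fin 3) F) * !![(-1 - i), (-1), (-i); (-i), (1 - i), 1; (-i), (-i), (1 + i)] = !![0, (-1 + i), (1 - i); (-1 - i), i, i; (1 - i), 1, 1] := by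
  have e00 : (-1) * (-1 - i) + (-1 - i) * (-i) + (-1) * (-i) = 0 := by
    linear_combination (1 : F) * hi + ((0 : F) + (1 : F) * i) * h3
  have e01 : (-1) * (-1) + (-1 - i) * (1 - i) + (-1) * (-i) = (-1 + i) := by
    linear_combination (1 : F) * hi + ((0 : F) + (0 : F) * i) * h3
  have e02 : (-1) * (-i) + (-1 - i) * 1 + (-1) * (1 + i) = (1 - i) := by
    linear_combination (0 : F) * hi + ((-1 : F) + (0 : F) * i) * h3
  have e10 : (1 - i) * (-1 - i) + i * (-i) + 1 * (-i) = (-1 - i) := by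
    linear_combination (0 : F) * hi + ((0 : F) + (0 : F) * i) * h3
  have e11 : (1 - i) * (-1) + i * (1 - i) + 1 * (-i) = i := by
    linear_combination (-1 : F) * hi + ((0 : F) + (0 : F) * i) * h3
  have e12 : (1 - i) * (-i) + i * 1 + 1 * (1 + i) = i := by
    linear_combination (1 : F) * hi + ((0 : F) + (0 : F) * i) * h3
  have e20 : (-1) * (-1 - i) + (-i) * (-i) + (-1 + i) * (-i) = (1 - i) := by
    linear_combination (0 : F) * hi + ((0 : F) + (1 : F) * i) * h3
  have e21 : (-1) * (-1) + (-i) * (1 - i) + (-1 + i) * (-i) = 1 := by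
    linear_combination (0 : F) * hi + ((0 : F) + (0 : F) * i) * h3
  have e22 : (-1) * (-i) + (-i) * 1 + (-1 + i) * (1 + i) = 1 := by
    linear_combination (1 : F) * hi + ((-1 : F) + (0 : F) * i) * h3
  rw [Matrix.mul_fin_three]
  simp only [e00, e01, e02, e10, e11, e12, e20, e21, e22]

theorem q3_c7 {F : Type u} [Field F] (i : F) (hi : i * i = -1) (h3 : (3 : F) = 0) :
    (!![0, (-1 + i), (1 - i); (-1 - i), i, i; (1 - i), 1, 1] : Matrix (Fin 3) (Fin 3) F) * !![0, (-1 + i), (1 + i); (-1 - i), (-i), 1; (1 + i), (-i), 1] = !![1, 0, 0; 0, 1, 0; 0, 0, 1] := by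
  have e00 : 0 * 0 + (-1 + i) * (-1 - i) + (1 - i) * (1 + i) = 1 := by
    linear_combination (-2 : F) * hi + ((1 : F) + (0 : F) * i) * h3
  have e01 : 0 * (-1 + i) + (-1 + i) * (-i) + (1 - i) * (-i) = 0 := by
    linear_combination (0 : F) * hi + ((0 : F) + (0 : F) * i) * h3
  have e02 : 0 * (1 + i) + (-1 + i) * 1 + (1 - i) * 1 = 0 := by
    linear_combination (0 : F) * hi + ((0 : F) + (0 : F) * i) * h3
  have e10 : (-1 - i) * 0 + i * (-1 - i) + i * (1 + i) = 0 := by
    linear_combination (0 : F) * hi + ((0 : F) + (0 : F) * i) * h3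
  have e11 : (-1 - i) * (-1 + i) + i * (-i) + i * (-i) = 1 := by
    linear_combination (-3 : F) * hi + ((1 : F) + (0 : F) * i) * h3
  have e12 : (-1 - i) * (1 + i) + i * 1 + i * 1 = 0 := by
    linear_combination (-1 : F) * hi + ((0 : F) + (0 : F) * i) * h3
  have e20 : (1 - i) * 0 + 1 * (-1 - i) + 1 * (1 + i) = 0 := by
    linear_combination (0 : F) * hi + ((0 : F) + (0 : F) * i) * h3
  have e21 : (1 - i) * (-1 + i) + 1 * (-i) + 1 * (-i) = 0 := by
    linear_combination (-1 : F) * hi + ((0 : F) + (0 : F) * i) * h3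
  have e22 : (1 - i) * (1 + i) + 1 * 1 + 1 * 1 = 1 := by
    linear_combination (-1 : F) * hi + ((1 : F) + (0 : F) * i) * h3
  rw [Matrix.mul_fin_three]
  simp only [e00, e01, e02, e10, e11, e12, e20, e21, e22]

theorem q3_t1 {F : Type u} [Field F] (i : F) :
    Cfsg.unitaryTransvection 3 3 (![1, 1, 1] : Fin 3 → F) i =
      !![(1 + i), i, i; i, (1 + i), i; i, i, (1 + i)] := by
  ext j k
  simp only [Cfsg.unitaryTransvection, Matrix.add_apply, Matrix.smul_apply,
    Matrix.vecMulVec_apply, smul_eq_mul]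
  fin_cases j <;> fin_cases k <;> simp

theorem q3_t2 {F : Type u} [Field F] (i : F) :
    Cfsg.unitaryTransvection 3 3 (![1, 1, -1] : Fin 3 → F) i =
      !![(1 + i), i, (-i); i, (1 + i), (-i); (-i), (-i), (1 + i)] := by
  ext j k
  simp only [Cfsg.unitaryTransvection, Matrix.add_apply, Matrix.smul_apply,
    Matrix.vecMulVec_apply, smul_eq_mul]
  fin_cases j <;> fin_cases k <;> simp <;> ring

theorem q3_t3 {F : Type u} [Field F] (i : F) :
    Cfsg.unitaryTransvection 3 3 (![1, -1, 1] : Fin 3 → F) (-i) =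
      !![(1 - i), i, (-i); i, (1 - i), i; (-i), i, (1 - i)] := by
  ext j k
  simp only [Cfsg.unitaryTransvection, Matrix.add_apply, Matrix.smul_apply,
    Matrix.vecMulVec_apply, smul_eq_mul]
  fin_cases j <;> fin_cases k <;> simp <;> ring

/-- [Q3] `q = 3`: an explicit triple of transvections with product of order `7`. -/
theorem pkgQ3 : PkgQ3.{u} := by
  intro F _ _ hF
  have h3 : (3 : F) = 0 := by
    have h9 : ((Fintype.card F : ℕ) : F) = 0 := FiniteField.cast_card_eq_zero F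
    rw [hF] at h9
    push_cast at h9
    have h33 : (3 : F) * 3 = 0 := by linear_combination h9
    exact mul_self_eq_zero.mp h33
  have hsq : IsSquare (-1 : F) := FiniteField.isSquare_neg_one_iff.mpr (by rw [hF]; decide)
  obtain ⟨i, hi'⟩ := hsq
  have hi : i * i = -1 := hi'.symm
  have hi0 : i ≠ 0 := by
    intro h
    rw [h, mul_zero] at hi
    exact one_ne_zero (neg_eq_zero.mp hi.symm)
  have hz1 : (![1, 1, 1] : Fin 3 → F) ≠ 0 := fun h => by
    have := congrFun h 0
    simp at this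
  have hz2 : (![1, 1, -1] : Fin 3 → F) ≠ 0 := fun h => by
    have := congrFun h 0
    simp at this
  have hz3 : (![1, -1, 1] : Fin 3 → F) ≠ 0 := fun h => by
    have := congrFun h 0
    simp at this
  have hh1 : Cfsg.hermForm 3 F 3 (![1, 1, 1] : Fin 3 → F) ![1, 1, 1] = 0 := by
    simp [Cfsg.hermForm, Fin.sum_univ_three]
    linear_combination h3
  have hh2 : Cfsg.hermForm 3 F 3 (![1, 1, -1] : Fin 3 → F) ![1, 1, -1] = 0 := by
    simp [Cfsg.hermForm, Fin.sum_univ_three]
    linear_combination h3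
  have hh3 : Cfsg.hermForm 3 F 3 (![1, -1, 1] : Fin 3 → F) ![1, -1, 1] = 0 := by
    simp [Cfsg.hermForm, Fin.sum_univ_three]
    linear_combination h3
  have hm1 : i ^ 3 = -i := by linear_combination i * hi
  have hm3 : (-i) ^ 3 = -(-i) := by linear_combination (-i) * hi
  refine ⟨![1, 1, 1], ![1, 1, -1], ![1, -1, 1], i, i, -i, ⟨hz1, hh1, hi0, hm1⟩,
    ⟨hz2, hh2, hi0, hm1⟩, ⟨hz3, hh3, neg_ne_zero.mpr hi0, hm3⟩, ?_⟩
  rw [q3_t1, q3_t2, q3_t3, q3_m12 i hi h3, q3_c i hi h3]
  haveI : Fact (Nat.Prime 7) := ⟨by norm_num⟩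
  apply orderOf_eq_prime
  · have hpow : ∀ C : Matrix (Fin 3) (Fin 3) F, C ^ 7 = C * C * (C * C) * (C * C) * C := by
      intro C
      rw [show (7 : ℕ) = 2 + 2 + 2 + 1 from rfl, pow_add, pow_add, pow_add, pow_two, pow_one]
    rw [hpow, q3_c2 i hi h3, q3_c4 i hi h3, q3_c6 i hi h3, q3_c7 i hi h3]
    exact Matrix.one_fin_three.symm
  · intro h
    have h00 := congrFun (congrFun h 0) 0
    simp at h00

end Cfsg.Agent.Lib.Helper85.U3
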